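import Cfsg.Agent.Lib.Helper28.Suz1782.ChkP0
import Cfsg.Agent.Lib.Helper28.Suz1782.ChkP1
import Cfsg.Agent.Lib.Helper28.Suz1782.ChkP2
import Cfsg.Agent.Lib.Helper28.Suz1782.ChkP3
import Cfsg.Agent.Lib.Helper28.Suz1782.ChkP4
import Cfsg.Agent.Lib.Helper28.Suz1782.ChkP5
import Cfsg.Agent.Lib.Helper28.Suz1782.ChkP6
import Cfsg.Agent.Lib.Helper28.Suz1782.ChkF0
import Cfsg.Agent.Lib.Helper28.Suz1782.ChkF1
import Cfsg.Agent.Lib.Helper28.Suz1782.ChkF2
import Cfsg.Agent.Lib.Helper28.Suz1782.ChkF3
import Cfsg.Agent.Lib.Helper28.Suz1782.ChkF4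
import Cfsg.Agent.Lib.Helper28.Suz1782.ChkF5
import Cfsg.Agent.Lib.Helper28.Suz1782.ChkF6
import Cfsg.Agent.Lib.Helper28.Suz1782.ChkF7
import Cfsg.Agent.Lib.Helper28.Suz1782.ChkC0
import Cfsg.Agent.Lib.Helper28.Suz1782.ChkC1

set_option autoImplicit false
set_option linter.unusedVariables false

namespace Cfsg.Agent.Lib.Helper28.Suz1782

open Cfsg.Spor.Suz (Gen)
open Cfsg.Agent.Lib.Helper28.TC

noncomputable section

def NNpad : ℕ := 8192
def wHot : ℕ := 29
theorem permP_all : ∀ i, i < nn → permP i = true := by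
  refine all_of_blocks nn permP 8 7 (by decide) ?_
  intro k hk
  interval_cases k
  · exact permP_blk0
  · exact permP_blk1
  · exact permP_blk2
  · exact permP_blk3
  · exact permP_blk4
  · exact permP_blk5
  · exact permP_blk6

theorem factP_all : ∀ i, i < NNpad → factP i = true := by
  refine allBlocks_spec factP 10 8 ?_
  intro k hk
  interval_cases k
  · exact factP_blk0
  · exact factP_blk1
  · exact factP_blk2
  · exact factP_blk3
  · exact factP_blk4
  · exact factP_blk5
  · exact factP_blk6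
  · exact factP_blk7

theorem closedP_all : ∀ i, i < nn → closedP i = true := by
  refine all_of_blocks nn closedP 10 2 (by decide) ?_
  intro k hk
  interval_cases k
  · exact closedP_blk0
  · exact closedP_blk1

theorem hotA_lt : hotA < 2 ^ (29 * 8192) := by decide +kernel
theorem hotE0_lt : hotE0 < 2 ^ (29 * 8192) := by decide +kernel
theorem hotE1_lt : hotE1 < 2 ^ (29 * 8192) := by decide +kernel
theorem hotE2_lt : hotE2 < 2 ^ (29 * 8192) := by decide +kernel
theorem hotE3_lt : hotE3 < 2 ^ (29 * 8192) := by decide +kernel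
theorem hotE4_lt : hotE4 < 2 ^ (29 * 8192) := by decide +kernel
theorem hotE5_lt : hotE5 < 2 ^ (29 * 8192) := by decide +kernel
theorem hotE6_lt : hotE6 < 2 ^ (29 * 8192) := by decide +kernel
theorem subFix : allList (fun w => Nat.beq (act tf w 0) 0) subWords = true := by decide +kernel

end

end Cfsg.Agent.Lib.Helper28.Suz1782
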